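import Cfsg.Agent.H966.EP.Perm
import Cfsg.Agent.Nodes.RGDLib
import Cfsg.Agent.Nodes.StabComb

/-!
# [EB]: a nontrivial constituent of `1_B^G` in the principal block (S4929)
-/

set_option autoImplicit false
set_option linter.unusedSectionVars false

universe u

open scoped ComplexConjugate
open Cfsg Cfsg.Agent.Characters.Core Cfsg.Agent.H892.EP
open CoxeterSystem Cfsg.Agent.ChevalleyStructure.CoxeterGeom Cfsg.Agent.Tits.Roots Cfsg.Agent.Tits.Core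
  Cfsg.Agent.Nodes.Reps Cfsg.Agent.Nodes.BNOf Cfsg.Agent.Omega.EH3.Kf.Lev Cfsg.Agent.Nodes.StabComb

namespace Cfsg.Agent.H966.EP

variable {I W : Type*} {Y : Type u} [Fintype I] [DecidableEq I] [Group W] [Group Y] [Finite Y] {M : CoxeterMatrix I}
  {cs : CoxeterSystem M W} {A : I → I → ℤ} {h : IsCartan M A} {T : Subgroup Y} {n : I → Y} {X : (I → ℤ) → Subgroup Y}

section rgd

variable [Finite W] {r : ℕ} [Fact r.Prime] (R : RGD cs h r T n X)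

include R

/-- `T ∩ U = 1` -/
theorem eq_one_of_T_U {y : Y} (hT : y ∈ T) (hU : y ∈ RGD.Sup X (RGD.Pos cs h)) : y = 1 := by
  obtain ⟨k, hk⟩ := R.isPGroup_Upos ⟨y, hU⟩
  have h1 : orderOf y ∣ r ^ k := orderOf_dvd_of_pow_eq_one (by simpa using congrArg Subtype.val hk)
  have h2 : orderOf y ∣ Nat.card T := by
    rw [← Subgroup.orderOf_mk y hT]
    exact orderOf_dvd_natCard _
  have hc : (r ^ k).Coprime (Nat.card T) := Nat.Coprime.pow_left k R.tcop.symm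
  exact orderOf_eq_one_iff.1 (Nat.dvd_one.1 (hc ▸ Nat.dvd_gcd h1 h2))

theorem card_B : Nat.card ↥(RGD.B cs h T X) = Nat.card T * Nat.card ↥(RGD.Sup X (RGD.Pos cs h)) := by
  rw [← Nat.card_prod]
  symm
  refine Nat.card_eq_of_bijective (fun a : T × ↥(RGD.Sup X (RGD.Pos cs h)) =>
    (⟨a.1 * a.2, mul_mem (RGD.T_le_B a.1.2) (RGD.U_le_B a.2.2)⟩ : ↥(RGD.B cs h T X))) ⟨?_, ?_⟩
  · rintro ⟨t, u⟩ ⟨t', u'⟩ he
    have he' : (t : Y) * u = t' * u' := congrArg Subtype.val he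
    have h1 : (t' : Y)⁻¹ * t = u' * (u : Y)⁻¹ := by
      rw [inv_mul_eq_iff_eq_mul, ← mul_assoc, ← he']; group
    have h2 : (t' : Y)⁻¹ * t = 1 := eq_one_of_T_U R (mul_mem (inv_mem t'.2) t.2) (by
      rw [h1]; exact mul_mem u'.2 (inv_mem u.2))
    have h3 : t = t' := Subtype.ext (inv_mul_eq_one.1 h2).symm
    subst h3
    rw [Subtype.ext (mul_left_cancel he')]
  · rintro ⟨x, hx⟩
    obtain ⟨t, ht, u, hu, rfl⟩ := R.mem_B.1 hx
    exact ⟨(⟨t, ht⟩, ⟨u, hu⟩), rfl⟩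

theorem n_notMem_B (i : I) : n i ∉ RGD.B cs h T X := by
  intro hi
  have h1 := R.eq_one_of_mem_B (rp_simple cs R.nsys i) hi
  have h2 := cs.length_simple i
  rw [h1, cs.length_one] at h2
  exact zero_ne_one h2

/-- `X_{-α_i} ∩ B = 1` -/
theorem neg_inf_B (i : I) {y : Y} (hy : y ∈ X (-sr i)) (hB : y ∈ RGD.B cs h T X) : y = 1 := by
  by_contra hne
  obtain ⟨a, ha, t, ht, b, hb, e⟩ := R.rk1 i y hy hne
  have haB : a ∈ RGD.B cs h T X := RGD.X_le_B (isRoot_sr cs h i) (sr_nonneg i) ha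
  have hbB : b ∈ RGD.B cs h T X := RGD.X_le_B (isRoot_sr cs h i) (sr_nonneg i) hb
  have htB : t ∈ RGD.B cs h T X := RGD.T_le_B ht
  apply n_notMem_B R i
  have h1 : n i = (a * t)⁻¹ * y * b⁻¹ := by rw [e]; group
  rw [h1]
  exact mul_mem (mul_mem (inv_mem (mul_mem haB htB)) hB) (inv_mem hbB)

theorem conj_n_X (i : I) {u : Y} (hu : u ∈ X (sr i)) : n i * u * (n i)⁻¹ ∈ X (-sr i) := by
  have := R.conj_mem (rp_simple cs R.nsys i) (isRoot_sr cs h i) hu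
  rwa [rep_simple_sr] at this

theorem conj_n_X' (i : I) {u : Y} (hu : u ∈ X (sr i)) : (n i)⁻¹ * u * n i ∈ X (-sr i) := by
  have := R.conj_mem' (rp_simple cs R.nsys i) (isRoot_sr cs h i) hu
  rwa [inv_simple, rep_simple_sr] at this

theorem V_le_B (i : I) : RGD.Sup X (RGD.PosNe cs h i) ≤ RGD.B cs h T X :=
  (RGD.Sup_mono (S := RGD.PosNe cs h i) (S' := RGD.Pos cs h) fun _ hz => ⟨hz.1, hz.2.1⟩).trans RGD.U_le_B

theorem conj_n_V (i : I) {v : Y} (hv : v ∈ RGD.Sup X (RGD.PosNe cs h i)) :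
    n i * v * (n i)⁻¹ ∈ RGD.Sup X (RGD.PosNe cs h i) := by
  have h1 : n i * v * (n i)⁻¹ ∈ cj (n i) (RGD.Sup X (RGD.PosNe cs h i)) := conj_mem_cj.2 hv
  rwa [R.cj_n_V i] at h1

theorem conj_n_V' (i : I) {v : Y} (hv : v ∈ RGD.Sup X (RGD.PosNe cs h i)) :
    (n i)⁻¹ * v * n i ∈ RGD.Sup X (RGD.PosNe cs h i) := by
  rw [← R.cj_n_V i, mem_cj] at hv
  exact hv

/-- `V_i ∩ X_i = 1` -/
theorem V_inf_X (i : I) {y : Y} (hV : y ∈ RGD.Sup X (RGD.PosNe cs h i)) (hX : y ∈ X (sr i)) : y = 1 := by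
  have h1 := neg_inf_B R i (conj_n_X R i hX) (V_le_B R i (conj_n_V R i hV))
  have h2 : y = (n i)⁻¹ * (n i * y * (n i)⁻¹) * n i := by group
  rw [h2, h1]; group

theorem conj_n_T (i : I) {t : Y} (ht : t ∈ T) : n i * t * (n i)⁻¹ ∈ T :=
  (Subgroup.mem_normalizer_iff.1 (R.nsys.norm i) t).1 ht

theorem conj_n_T' (i : I) {t : Y} (ht : t ∈ T) : (n i)⁻¹ * t * n i ∈ T := by
  have := (Subgroup.mem_normalizer_iff.1 (inv_mem (R.nsys.norm i)) t).1 ht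
  rwa [inv_inv] at this

/-- conjugation of `X_α` by `T` -/
theorem conj_T_X {x : I → ℤ} (hx : IsRoot cs h x) {t u : Y} (ht : t ∈ T) (hu : u ∈ X x) : t * u * t⁻¹ ∈ X x := by
  have h1 : t * u * t⁻¹ ∈ cj t (X x) := conj_mem_cj.2 hu
  rwa [R.tor x hx t ht] at h1

/-- the minimal parabolic subgroup -/
def Pmin (i : I) : Subgroup Y where
  carrier := {g | g ∈ RGD.B cs h T X ∨ ∃ b ∈ RGD.B cs h T X, ∃ c ∈ RGD.B cs h T X, g = b * n i * c}
  one_mem' := Or.inl (one_mem _)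
  mul_mem' := by
    rintro a b (ha | ⟨a1, ha1, a2, ha2, rfl⟩) (hb | ⟨b1, hb1, b2, hb2, rfl⟩)
    · exact Or.inl (mul_mem ha hb)
    · exact Or.inr ⟨a * b1, mul_mem ha hb1, b2, hb2, by group⟩
    · exact Or.inr ⟨a1, ha1, a2 * b, mul_mem ha2 hb, by group⟩
    · rcases R.bn3 i (rp_simple cs R.nsys i) (mul_mem ha2 hb1) with h1 | h1
      · left
        rw [DoubleCoset.mem_doubleCoset] at h1
        obtain ⟨c, hc, d, hd, e⟩ := h1
        have h2 : a1 * n i * a2 * (b1 * n i * b2) = a1 * (n i * (a2 * b1) * n i) * b2 := by group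
        rw [h2, e]
        exact mul_mem (mul_mem ha1 (mul_mem (mul_mem hc (RGD.T_le_B (R.sq_mem_T i))) hd)) hb2
      · right
        rw [DoubleCoset.mem_doubleCoset] at h1
        obtain ⟨c, hc, d, hd, e⟩ := h1
        have h2 : a1 * n i * a2 * (b1 * n i * b2) = a1 * (n i * (a2 * b1) * n i) * b2 := by group
        refine ⟨a1 * c, mul_mem ha1 hc, d * b2, mul_mem hd hb2, ?_⟩
        rw [h2, e]; group
  inv_mem' := by
    rintro a (ha | ⟨a1, ha1, a2, ha2, rfl⟩)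
    · exact Or.inl (inv_mem ha)
    · refine Or.inr ⟨a2⁻¹ * (n i * n i)⁻¹, mul_mem (inv_mem ha2) (inv_mem (RGD.T_le_B (R.sq_mem_T i))), a1⁻¹,
        inv_mem ha1, by group⟩

variable (hT : ∀ a ∈ T, ∀ b ∈ T, a * b = b * a)

include hT

/-- the centraliser of `x` in `X_i` -/
theorem cent_X {i : I} {x : Y} (hx : x ∈ T) (hn : n i * x * (n i)⁻¹ = x⁻¹) (hx2 : x * x ≠ 1) {u : Y}
    (hu : u ∈ X (sr i)) (hc : x * u * x⁻¹ = u) : u = 1 := by
  by_contra hne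
  have hne' : n i * u * (n i)⁻¹ ≠ 1 := by
    intro h0
    apply hne
    have : u = (n i)⁻¹ * (n i * u * (n i)⁻¹) * n i := by group
    rw [this, h0]; group
  have hroot := isRoot_sr cs h i
  obtain ⟨a, ha, s, hs, b, hb, e⟩ := R.rk1 i _ (conj_n_X R i hu) hne'
  -- `x` centralises `n u n⁻¹`
  have h1 : x * (n i * u * (n i)⁻¹) * x⁻¹ = n i * u * (n i)⁻¹ := by
    have h2 : x = n i * x⁻¹ * (n i)⁻¹ := by
      have : n i * x⁻¹ * (n i)⁻¹ = (n i * x * (n i)⁻¹)⁻¹ := by group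
      rw [this, hn, inv_inv]
    have h3 : x⁻¹ * u * x = u := by
      calc x⁻¹ * u * x = x⁻¹ * (x * u * x⁻¹) * x := by rw [hc]
        _ = u := by group
    calc x * (n i * u * (n i)⁻¹) * x⁻¹ = (n i * x⁻¹ * (n i)⁻¹) * (n i * u * (n i)⁻¹) * (n i * x⁻¹ * (n i)⁻¹)⁻¹ := by
          rw [← h2]
      _ = n i * (x⁻¹ * u * x) * (n i)⁻¹ := by group
      _ = n i * u * (n i)⁻¹ := by rw [h3]
  -- `x n x⁻¹ = x² n`
  have hxn : x * n i * x⁻¹ = x * x * n i := by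
    have : n i * x⁻¹ = x * n i := by
      have h3 : n i * x⁻¹ * (n i)⁻¹ = (n i * x * (n i)⁻¹)⁻¹ := by group
      rw [hn, inv_inv] at h3
      exact mul_inv_eq_iff_eq_mul.1 h3
    rw [mul_assoc, this, mul_assoc]
  have hxs : x * s * x⁻¹ = s := by rw [hT x hx s hs]; group
  have e2 : a * s * n i * b = (x * a * x⁻¹) * s * (x * x * n i) * (x * b * x⁻¹) := by
    calc a * s * n i * b = x * (a * s * n i * b) * x⁻¹ := by rw [← e, h1]
      _ = (x * a * x⁻¹) * (x * s * x⁻¹) * (x * n i * x⁻¹) * (x * b * x⁻¹) := by group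
      _ = _ := by rw [hxs, hxn]
  have ha' : x * a * x⁻¹ ∈ X (sr i) := conj_T_X R hroot hx ha
  have hb' : x * b * x⁻¹ ∈ X (sr i) := conj_T_X R hroot hx hb
  -- `n (b b'⁻¹) n⁻¹ ∈ B`
  have h4 : n i * (b * (x * b * x⁻¹)⁻¹) * (n i)⁻¹ = s⁻¹ * (a⁻¹ * (x * a * x⁻¹)) * s * (x * x) := by
    have : n i * (b * (x * b * x⁻¹)⁻¹) * (n i)⁻¹ = (a * s)⁻¹ * (a * s * n i * b) * (x * b * x⁻¹)⁻¹ * (n i)⁻¹ := by
      group
    rw [this, e2]; group
  have hB : s⁻¹ * (a⁻¹ * (x * a * x⁻¹)) * s * (x * x) ∈ RGD.B cs h T X :=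
    mul_mem (mul_mem (mul_mem (RGD.T_le_B (inv_mem hs)) (RGD.X_le_B hroot (sr_nonneg i) (mul_mem (inv_mem ha) ha')))
      (RGD.T_le_B hs)) (RGD.T_le_B (mul_mem hx hx))
  have h5 := neg_inf_B R i (conj_n_X R i (mul_mem hb (inv_mem hb'))) (by rw [h4]; exact hB)
  rw [h4] at h5
  apply hx2
  have h6 : (x * x)⁻¹ ∈ X (sr i) := by
    have h7 : (x * x)⁻¹ = s⁻¹ * (a⁻¹ * (x * a * x⁻¹)) * s⁻¹⁻¹ := by
      rw [inv_inv]
      exact (eq_inv_of_mul_eq_one_left h5).symm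
    rw [h7]
    exact conj_T_X R hroot (inv_mem hs) (mul_mem (inv_mem ha) ha')
  have h8 := eq_one_of_T_U R (inv_mem (mul_mem hx hx)) (RGD.le_Sup (S := RGD.Pos cs h) ⟨hroot, sr_nonneg i⟩ h6)
  exact inv_eq_one.1 h8

/-- elements of the parabolic subgroup commuting with `x` -/
theorem fixed_of_comm {i : I} {x : Y} (hx : x ∈ T) (hn : n i * x * (n i)⁻¹ = x⁻¹) (hx2 : x * x ≠ 1) {g : Y}
    (hg : g ∈ Pmin R i) (hc : g * x = x * g) : g ∈ RGD.B cs h T X ∧ (n i)⁻¹ * g * n i ∈ RGD.B cs h T X := by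
  have hroot := isRoot_sr cs h i
  have hc' : x * g * x⁻¹ = g := by rw [← hc]; group
  have hxn : x * n i * x⁻¹ = x * x * n i := by
    have : n i * x⁻¹ = x * n i := by
      have h3 : n i * x⁻¹ * (n i)⁻¹ = (n i * x * (n i)⁻¹)⁻¹ := by group
      rw [hn, inv_inv] at h3
      exact mul_inv_eq_iff_eq_mul.1 h3
    rw [mul_assoc, this, mul_assoc]
  have hVT : ∀ {v : Y}, v ∈ RGD.Sup X (RGD.PosNe cs h i) → ∀ {t : Y}, t ∈ T →
      t * v * t⁻¹ ∈ RGD.Sup X (RGD.PosNe cs h i) := fun {v} hv {t} ht =>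
    (Subgroup.mem_normalizer_iff.1 (R.T_le_normalizer (S := RGD.PosNe cs h i) (fun _ hz => hz.1) ht) v).1 hv
  rcases hg with hg | ⟨b1, hb1, b2, hb2, e⟩
  · refine ⟨hg, ?_⟩
    obtain ⟨v, hv, u, hu, t, ht, e⟩ := R.mem_B' i hg
    have hxt : x * t * x⁻¹ = t := by rw [hT x hx t ht]; group
    have h1 : (x * v * x⁻¹) * (x * u * x⁻¹) * t = v * u * t := by
      calc (x * v * x⁻¹) * (x * u * x⁻¹) * t = (x * v * x⁻¹) * (x * u * x⁻¹) * (x * t * x⁻¹) := by rw [hxt]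
        _ = x * (v * u * t) * x⁻¹ := by group
        _ = v * u * t := by rw [← e]; exact hc'
    have h2 : v⁻¹ * (x * v * x⁻¹) = u * (x * u * x⁻¹)⁻¹ := by
      have h3 := mul_right_cancel h1
      calc v⁻¹ * (x * v * x⁻¹) = v⁻¹ * ((x * v * x⁻¹) * (x * u * x⁻¹)) * (x * u * x⁻¹)⁻¹ := by group
        _ = v⁻¹ * (v * u) * (x * u * x⁻¹)⁻¹ := by rw [h3]
        _ = _ := by group
    have hu' : x * u * x⁻¹ ∈ X (sr i) := conj_T_X R hroot hx hu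
    have h3 : u * (x * u * x⁻¹)⁻¹ = 1 := V_inf_X R i (by rw [← h2]; exact mul_mem (inv_mem hv) (hVT hv hx))
      (mul_mem hu (inv_mem hu'))
    have h4 : u = 1 := cent_X R hT hx hn hx2 hu (mul_inv_eq_one.1 h3).symm
    have h5 : (n i)⁻¹ * g * n i = ((n i)⁻¹ * v * n i) * ((n i)⁻¹ * t * n i) := by rw [e, h4]; group
    rw [h5]
    exact mul_mem (V_le_B R i (conj_n_V' R i hv)) (RGD.T_le_B (conj_n_T' R i ht))
  · exfalso
    obtain ⟨v, hv, u, hu, t, ht, e'⟩ := R.mem_B' i hb1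
    -- `g = u n b`
    have h1 : g = u * n i * (((n i)⁻¹ * (u⁻¹ * v * u) * n i) * ((n i)⁻¹ * t * n i) * b2) := by
      rw [e, e']; group
    have hv' : u⁻¹ * v * u ∈ RGD.Sup X (RGD.PosNe cs h i) := by
      have := (Subgroup.mem_normalizer_iff.1 (R.X_le_normalizer_V i (inv_mem hu)) v).1 hv
      rwa [inv_inv] at this
    have hb : (((n i)⁻¹ * (u⁻¹ * v * u) * n i) * ((n i)⁻¹ * t * n i) * b2) ∈ RGD.B cs h T X :=
      mul_mem (mul_mem (V_le_B R i (conj_n_V' R i hv')) (RGD.T_le_B (conj_n_T' R i ht))) hb2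
    generalize (((n i)⁻¹ * (u⁻¹ * v * u) * n i) * ((n i)⁻¹ * t * n i) * b2) = b at h1 hb
    have hxB : x ∈ RGD.B cs h T X := RGD.T_le_B hx
    have hu' : x * u * x⁻¹ ∈ X (sr i) := conj_T_X R hroot hx hu
    have hb' : x * b * x⁻¹ ∈ RGD.B cs h T X := mul_mem (mul_mem hxB hb) (inv_mem hxB)
    have h2 : (x * u * x⁻¹) * (x * x * n i) * (x * b * x⁻¹) = u * n i * b := by
      calc (x * u * x⁻¹) * (x * x * n i) * (x * b * x⁻¹) = (x * u * x⁻¹) * (x * n i * x⁻¹) * (x * b * x⁻¹) := by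
            rw [hxn]
        _ = x * (u * n i * b) * x⁻¹ := by group
        _ = u * n i * b := by rw [← h1]; exact hc'
    have h3 : (n i)⁻¹ * ((x * u * x⁻¹)⁻¹ * u) * n i = ((n i)⁻¹ * (x * x) * n i) * (x * b * x⁻¹) * b⁻¹ := by
      calc (n i)⁻¹ * ((x * u * x⁻¹)⁻¹ * u) * n i = (n i)⁻¹ * (x * u * x⁻¹)⁻¹ * (u * n i * b) * b⁻¹ := by group
        _ = (n i)⁻¹ * (x * u * x⁻¹)⁻¹ * ((x * u * x⁻¹) * (x * x * n i) * (x * b * x⁻¹)) * b⁻¹ := by rw [h2]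
        _ = _ := by group
    have h4 : (n i)⁻¹ * ((x * u * x⁻¹)⁻¹ * u) * n i = 1 := by
      refine neg_inf_B R i (conj_n_X' R i (mul_mem (inv_mem hu') hu)) ?_
      rw [h3]
      exact mul_mem (mul_mem (RGD.T_le_B (conj_n_T' R i (mul_mem hx hx))) hb') (inv_mem hb)
    have h5 : (x * u * x⁻¹)⁻¹ * u = 1 := by
      have : (x * u * x⁻¹)⁻¹ * u = n i * ((n i)⁻¹ * ((x * u * x⁻¹)⁻¹ * u) * n i) * (n i)⁻¹ := by group
      rw [this, h4]; group
    have h6 : x * u * x⁻¹ = u := inv_mul_eq_one.1 h5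
    have h7 : ((n i)⁻¹ * (x * x) * n i) * (x * b * x⁻¹) * b⁻¹ = 1 := by rw [← h3, h4]
    -- `n⁻¹ x² n = x⁻²`
    have h8 : (n i)⁻¹ * (x * x) * n i = x⁻¹ * x⁻¹ := by
      have h9 : (n i)⁻¹ * x * n i = x⁻¹ := by
        have h10 : x = (n i * x * (n i)⁻¹)⁻¹ := by rw [hn, inv_inv]
        calc (n i)⁻¹ * x * n i = (n i)⁻¹ * (n i * x * (n i)⁻¹)⁻¹ * n i := by rw [← h10]
          _ = x⁻¹ := by group
      calc (n i)⁻¹ * (x * x) * n i = ((n i)⁻¹ * x * n i) * ((n i)⁻¹ * x * n i) := by group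
        _ = _ := by rw [h9]
    rw [h8] at h7
    -- `x² = (x b x⁻¹) b⁻¹ ∈ U`
    have h9 : x * x = (x * b * x⁻¹) * b⁻¹ := by
      have : (x * b * x⁻¹) * b⁻¹ = x * x * (x⁻¹ * x⁻¹ * (x * b * x⁻¹) * b⁻¹) := by group
      rw [this, h7, mul_one]
    obtain ⟨s, hs, w, hw, eb⟩ := R.mem_B.1 hb
    have hUn : ∀ {y : Y}, y ∈ RGD.Sup X (RGD.Pos cs h) → ∀ {t : Y}, t ∈ T →
        t * y * t⁻¹ ∈ RGD.Sup X (RGD.Pos cs h) := fun {y} hy {t} ht =>
      (Subgroup.mem_normalizer_iff.1 (R.T_le_normalizer_U ht) y).1 hy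
    have h10 : (x * b * x⁻¹) * b⁻¹ = s * ((x * w * x⁻¹) * w⁻¹) * s⁻¹ := by
      have hxs : x * s * x⁻¹ = s := by rw [hT x hx s hs]; group
      calc (x * b * x⁻¹) * b⁻¹ = (x * s * x⁻¹) * (x * w * x⁻¹) * w⁻¹ * s⁻¹ := by rw [eb]; group
        _ = _ := by rw [hxs]; group
    exact hx2 (eq_one_of_T_U R (mul_mem hx hx) (by
      rw [h9, h10]
      exact hUn (mul_mem (hUn hw hx) (inv_mem hw)) hs))

end rgd

/-- **[EB]** a nontrivial constituent of `1_B^G` in the principal block -/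
theorem even_exists [Finite W] {r : ℕ} [Fact r.Prime] (R : RGD cs h r T n X) (hG : Cfsg.Agent.Nodes.RGDLib.G1 cs h X = ⊤)
    (hT : ∀ a ∈ T, ∀ b ∈ T, a * b = b * a) {p : ℕ} [Fact p.Prime] (hp2 : p ≠ 2) (hpr : p ≠ r) (hd : p ∣ Nat.card Y)
    (hmv : p ∣ Nat.card T → ∃ i, ∃ t ∈ T, (∃ k : ℕ, t ^ p ^ k = 1) ∧ n i * t ≠ t * n i)
    {M' : Ideal AlgInt} (hM : IsPModular p M') :
    ∃ χ : IrrCharacter Y, χ ∈ principalBlock M' Y ∧ χ ≠ oneChar Y ∧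
      ∑ᶠ b : ↥(RGD.B cs h T X), (χ : Y → ℂ) b ≠ 0 := by
  have hp : p.Prime := Fact.out
  suffices hs : ∃ χ ∈ principalBlock M' Y, χ ≠ oneChar Y ∧ md (RGD.B cs h T X) (χ : Y → ℂ) ≠ 0 by
    obtain ⟨χ, hχ, hne, h1⟩ := hs
    refine ⟨χ, hχ, hne, fun h0 => h1 ?_⟩
    rw [md_eq_zero_iff]
    exact h0
  by_cases hpT : p ∣ Nat.card T
  · obtain ⟨i, t, ht, ⟨k, hk⟩, hne⟩ := hmv hpT
    -- the element `x = [n i, t]`
    set s : Y := n i * t * (n i)⁻¹ with hsdef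
    have hs : s ∈ T := conj_n_T R i ht
    have hx : s * t⁻¹ ∈ T := mul_mem hs (inv_mem ht)
    have hs2 : n i * s * (n i)⁻¹ = t := by
      have h1 : n i * s * (n i)⁻¹ = (n i * n i) * t * (n i * n i)⁻¹ := by rw [hsdef]; group
      rw [h1, hT _ (R.sq_mem_T i) t ht]; group
    have hn : n i * (s * t⁻¹) * (n i)⁻¹ = (s * t⁻¹)⁻¹ := by
      calc n i * (s * t⁻¹) * (n i)⁻¹ = (n i * s * (n i)⁻¹) * (n i * t * (n i)⁻¹)⁻¹ := by group
        _ = t * s⁻¹ := by rw [hs2]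
        _ = _ := by group
    have hx1 : s * t⁻¹ ≠ 1 := by
      intro h0
      apply hne
      have h1 : s = t := mul_inv_eq_one.1 h0
      rw [hsdef] at h1
      rw [← h1]
      have h2 : n i * t * (n i)⁻¹ * n i = n i * t := by group
      rw [h2, h1]
    have hxk : (s * t⁻¹) ^ p ^ k = 1 := by
      have h1 : Commute s t⁻¹ := (show Commute s t from hT s hs t ht).inv_right
      rw [h1.mul_pow, inv_pow, hk, inv_one, mul_one, hsdef, conj_pow, hk]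
      group
    obtain ⟨j, -, hj⟩ := (Nat.dvd_prime_pow hp).1 (orderOf_dvd_of_pow_eq_one hxk)
    have hx2 : (s * t⁻¹) * (s * t⁻¹) ≠ 1 := by
      intro h0
      have h1 : orderOf (s * t⁻¹) ∣ 2 := orderOf_dvd_of_pow_eq_one (by rw [pow_two, h0])
      rw [hj] at h1
      have h3 : j = 0 := by
        by_contra hj0
        exact hp2 ((Nat.prime_dvd_prime_iff_eq hp Nat.prime_two).1 ((dvd_pow_self p hj0).trans h1))
      rw [h3, pow_zero, orderOf_eq_one_iff] at hj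
      exact hx1 hj
    have hnP : n i ∈ Pmin R i := Or.inr ⟨1, one_mem _, 1, one_mem _, by group⟩
    have hxB : s * t⁻¹ ∈ RGD.B cs h T X := RGD.T_le_B hx
    have hBP : RGD.B cs h T X ≤ Pmin R i := fun b hb => Or.inl hb
    have hxP : s * t⁻¹ ∈ Pmin R i := hBP hxB
    refine exists_over_md hM (Pmin R i) (RGD.B cs h T X) hBP ?_
    refine exists_of_fixed hM ((RGD.B cs h T X).subgroupOf (Pmin R i)) (x := ⟨s * t⁻¹, hxP⟩) (n := ⟨n i, hnP⟩)
      ⟨j, by rw [Subgroup.orderOf_mk, hj]⟩ ?_ ?_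
    · rw [Subgroup.mem_subgroupOf]
      exact n_notMem_B R i
    · rintro ⟨g, hg⟩ hgc
      have h1 := fixed_of_comm R hT hx hn hx2 hg (congrArg Subtype.val hgc)
      rw [Subgroup.mem_subgroupOf, Subgroup.mem_subgroupOf]
      exact h1
  · refine exists_of_coprime hM (RGD.B cs h T X) hd ?_
    rw [card_B R]
    obtain ⟨k, hk⟩ := IsPGroup.iff_card.1 R.isPGroup_Upos
    rw [hk]
    intro h0
    rcases hp.dvd_mul.1 h0 with h1 | h1
    · exact hpT h1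
    · exact hpr ((Nat.prime_dvd_prime_iff_eq hp Fact.out).1 (hp.dvd_of_dvd_pow h1))

end Cfsg.Agent.H966.EP
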