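import Cfsg.Agent.H892.EP.TM

/-!
# Permutation characters and the principal block (S4929, [EB])

* `permF B g` : the number of `y` with `y⁻¹ g y ∈ B`;
* `exists_of_coprime` : if `p` divides `|G|` but not `|B|` then some nontrivial character of the principal
  block is a constituent of `1_B^G`;
* `exists_of_fixed` : the same if the elements commuting with the `p`-element `x` fix two points of `G / B`;
* `md_ne_zero_of_over` : passing to an overgroup.
-/

set_option autoImplicit false
set_option linter.unusedSectionVars false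

open scoped ComplexConjugate
open Cfsg Cfsg.Agent.Characters.Core

namespace Cfsg.Agent.H966.EP

open Cfsg.Agent.H892.EP

universe u

variable {G : Type u} [Group G] [Finite G]

/-- the number of `y` with `y⁻¹ g y ∈ B` -/
noncomputable def permF (B : Subgroup G) (g : G) : ℂ := (Nat.card {y : G // y⁻¹ * g * y ∈ B} : ℂ)

theorem permF_class (B : Subgroup G) : IsClassFunction G (permF B) := by
  intro g k
  unfold permF
  congr 1
  refine Nat.card_congr ?_
  exact
    { toFun := fun y => ⟨k⁻¹ * y.1, by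
        have := y.2
        rwa [show y.1⁻¹ * (k * g * k⁻¹) * y.1 = (k⁻¹ * y.1)⁻¹ * g * (k⁻¹ * y.1) by group] at this⟩
      invFun := fun y => ⟨k * y.1, by
        have := y.2
        rwa [show y.1⁻¹ * g * y.1 = (k * y.1)⁻¹ * (k * g * k⁻¹) * (k * y.1) by group] at this⟩
      left_inv := fun y => Subtype.ext (by simp)
      right_inv := fun y => Subtype.ext (by simp) }

open scoped Classical in
theorem classInner_permF [Fintype G] (B : Subgroup G) {ψ : G → ℂ} (hψ : IsClassFunction G ψ) :
    classInner (permF B) ψ = (Nat.card B : ℂ) * conj (md B ψ) := by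
  have := Fintype.ofFinite B
  rw [classInner_def, md_eq]
  have h1 : ∀ g : G, permF B g * conj (ψ g) = ∑ y : G, if y⁻¹ * g * y ∈ B then conj (ψ (y⁻¹ * g * y)) else 0 := by
    intro g
    have h2 : ∀ y : G, (if y⁻¹ * g * y ∈ B then conj (ψ (y⁻¹ * g * y)) else 0) =
        (if y⁻¹ * g * y ∈ B then 1 else 0) * conj (ψ g) := by
      intro y
      have h3 : ψ (y⁻¹ * g * y) = ψ g := by
        have := hψ g y⁻¹
        rwa [inv_inv] at this
      rw [h3]
      split_ifs <;> simp
    rw [Finset.sum_congr rfl fun y _ => h2 y, ← Finset.sum_mul]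
    congr 1
    unfold permF
    rw [Nat.card_eq_fintype_card, Fintype.card_subtype, Finset.sum_boole]
  rw [Finset.sum_congr rfl fun g _ => h1 g, Finset.sum_comm]
  have h2 : ∀ y : G, ∑ g : G, (if y⁻¹ * g * y ∈ B then conj (ψ (y⁻¹ * g * y)) else 0) =
      ∑ b : B, conj (ψ b) := by
    intro y
    have h3 : ∑ g : G, (if y⁻¹ * g * y ∈ B then conj (ψ (y⁻¹ * g * y)) else 0) =
        ∑ g : G, (if g ∈ B then conj (ψ g) else 0) := by
      refine Fintype.sum_equiv (MulAut.conj y⁻¹).toEquiv _ _ fun g => ?_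
      have h4 : (MulAut.conj y⁻¹).toEquiv g = y⁻¹ * g * y := by
        show y⁻¹ * g * y⁻¹⁻¹ = _
        rw [inv_inv]
      rw [h4]
    rw [h3, ← Finset.sum_filter]
    exact (Finset.sum_subtype _ (fun x => by simp) (fun g => conj (ψ g)))
  rw [Finset.sum_congr rfl fun y _ => h2 y, Finset.sum_const, Finset.card_univ, ← Nat.card_eq_fintype_card (α := G),
    nsmul_eq_mul, ← mul_assoc, inv_mul_cancel₀ card_ne_zero_complex, one_mul, map_mul, map_sum, map_inv₀,
    Complex.conj_natCast, ← mul_assoc, mul_inv_cancel₀ card_ne_zero_complex, one_mul]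

theorem md_one (B : Subgroup G) : md B (oneChar G : G → ℂ) = 1 := by
  have := Fintype.ofFinite B
  rw [md_eq]
  simp only [Finset.sum_const, Finset.card_univ, nsmul_eq_mul, mul_one]
  rw [← Nat.card_eq_fintype_card, inv_mul_cancel₀ card_ne_zero_complex]

theorem classInner_permF_ne_zero [Fintype G] (B : Subgroup G) (ψ : IrrCharacter G) :
    classInner (permF B) (ψ : G → ℂ) ≠ 0 ↔ md B (ψ : G → ℂ) ≠ 0 := by
  rw [classInner_permF B (isIrr_isClassFunction ψ.2), Ne, mul_eq_zero, not_or, map_eq_zero]
  exact ⟨fun h => h.2, fun h => ⟨card_ne_zero_complex, h⟩⟩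

variable {p : ℕ} [Fact p.Prime] {M : Ideal AlgInt}

/-- `p` divides `|G|` but not `|B|` -/
theorem exists_of_coprime (hM : IsPModular p M) (B : Subgroup G) (hd : p ∣ Nat.card G) (hB : ¬ p ∣ Nat.card B) :
    ∃ χ ∈ principalBlock M G, χ ≠ oneChar G ∧ md B (χ : G → ℂ) ≠ 0 := by
  have := Fintype.ofFinite G
  obtain ⟨x, hx⟩ := exists_prime_orderOf_dvd_card' p hd
  have h0 : ∀ u z : G, IsPPart p u z → IsConj x z → permF B u = 0 := by
    intro u z hz hxz
    obtain ⟨y, e, hc, -, hy⟩ := hz
    have hzo : orderOf z = p := by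
      obtain ⟨c, hc⟩ := isConj_iff.1 hxz
      rw [← hc, ← hx]
      exact (MulAut.conj c).orderOf_eq x
    unfold permF
    rw [Nat.cast_eq_zero, Nat.card_eq_zero]
    left
    constructor
    rintro ⟨k, hk⟩
    apply hB
    -- the element `k⁻¹ u k` of `B` has order divisible by `p`
    have h1 : p ∣ orderOf (k⁻¹ * u * k) := by
      have h2 : orderOf (k⁻¹ * u * k) = orderOf u := by
        have := (MulAut.conj k⁻¹).orderOf_eq u
        rw [← this]
        congr 1
        show _ = k⁻¹ * u * k⁻¹⁻¹
        rw [inv_inv]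
      rw [h2, ← e, hc.orderOf_mul_eq_mul_orderOf_of_coprime, hzo]
      · exact dvd_mul_right _ _
      · rw [hzo]
        exact (Nat.Prime.coprime_iff_not_dvd Fact.out).2 hy
    have h3 : orderOf (⟨_, hk⟩ : B) = orderOf (k⁻¹ * u * k) := (Subgroup.orderOf_coe _).symm
    rw [← h3] at h1
    exact h1.trans (orderOf_dvd_natCard _)
  obtain ⟨χ, hχ, hne, h1⟩ := exists_ne_one_of_vanish hM (permF B) x ⟨1, by rw [hx, pow_one]⟩ h0
    ((classInner_permF_ne_zero B _).2 (by rw [md_one]; exact one_ne_zero))
  exact ⟨χ, hχ, hne, (classInner_permF_ne_zero B χ).1 h1⟩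

/-- the elements commuting with the `p`-element `x` fix two points of `G / B` -/
theorem exists_of_fixed (hM : IsPModular p M) (B : Subgroup G) {x n : G} (hx : ∃ k : ℕ, orderOf x = p ^ k)
    (hn : n ∉ B) (h : ∀ g : G, g * x = x * g → g ∈ B ∧ n⁻¹ * g * n ∈ B) :
    ∃ χ ∈ principalBlock M G, χ ≠ oneChar G ∧ md B (χ : G → ℂ) ≠ 0 := by
  classical
  have := Fintype.ofFinite G
  have : Finite (IrrCharacter G) := finite_irr
  have := Fintype.ofFinite (IrrCharacter G)
  set S : Set G := {g : G | ∃ z, IsPPart p g z ∧ IsConj x z} with hS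
  have hSf : S.Finite := Set.toFinite _
  -- at least two fixed points on the section
  have h2 : ∀ g ∈ S, 2 * Nat.card B ≤ Nat.card {y : G // y⁻¹ * g * y ∈ B} := by
    rintro g ⟨z, ⟨y, e, hc, hz, hy⟩, hxz⟩
    obtain ⟨c, hc'⟩ := isConj_iff.1 hxz
    -- `g = c g' c⁻¹` with `g'` commuting with `x`
    have h3 : (c⁻¹ * g * c) * x = x * (c⁻¹ * g * c) := by
      have h4 : z * g = g * z := by rw [← e, mul_assoc, hc.eq]
      have h5 : x = c⁻¹ * z * c := by rw [← hc']; group
      rw [h5]
      calc c⁻¹ * g * c * (c⁻¹ * z * c) = c⁻¹ * (g * z) * c := by group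
        _ = c⁻¹ * (z * g) * c := by rw [h4]
        _ = c⁻¹ * z * c * (c⁻¹ * g * c) := by group
    obtain ⟨hB, hnB⟩ := h _ h3
    have hinj : Function.Injective (fun q : Bool × B =>
        (⟨if q.1 then c * n * q.2 else c * q.2, by
          obtain ⟨b, k⟩ := q
          cases b
          · have : (c * (k : G))⁻¹ * g * (c * k) = (k : G)⁻¹ * (c⁻¹ * g * c) * k := by group
            simp only [Bool.false_eq_true, if_false]
            rw [this]
            exact mul_mem (mul_mem (inv_mem k.2) hB) k.2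
          · have : (c * n * (k : G))⁻¹ * g * (c * n * k) = (k : G)⁻¹ * (n⁻¹ * (c⁻¹ * g * c) * n) * k := by group
            simp only [if_true]
            rw [this]
            exact mul_mem (mul_mem (inv_mem k.2) hnB) k.2⟩ : {y : G // y⁻¹ * g * y ∈ B})) := by
      rintro ⟨b, k⟩ ⟨b', k'⟩ he
      have he' := congrArg Subtype.val he
      dsimp only at he'
      cases b <;> cases b'
      · simp only [Bool.false_eq_true, if_false] at he'
        rw [Subtype.ext (mul_left_cancel he')]
      · simp only [Bool.false_eq_true, if_false, if_true] at he'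
        exfalso
        apply hn
        have : n = k * (k' : G)⁻¹ := by
          rw [mul_assoc] at he'
          have := mul_left_cancel he'
          rw [this]; group
        rw [this]
        exact mul_mem k.2 (inv_mem k'.2)
      · simp only [Bool.false_eq_true, if_false, if_true] at he'
        exfalso
        apply hn
        have : n = k' * (k : G)⁻¹ := by
          rw [mul_assoc] at he'
          have := mul_left_cancel he'
          rw [← this]; group
        rw [this]
        exact mul_mem k'.2 (inv_mem k.2)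
      · simp only [if_true] at he'
        rw [Subtype.ext (mul_left_cancel he')]
    have := Nat.card_le_card_of_injective _ hinj
    rwa [Nat.card_prod, Nat.card_eq_fintype_card (α := Bool), Fintype.card_bool] at this
  -- the section contains `x`
  have hxS : x ∈ S := ⟨x, ⟨1, mul_one x, Commute.one_right x, hx, by simpa using (Fact.out : p.Prime).one_lt.ne'⟩,
    IsConj.refl x⟩
  have h3 : ∑ g ∈ hSf.toFinset, (permF B g - (Nat.card B : ℂ)) ≠ 0 := by
    have h4 : ∑ g ∈ hSf.toFinset, (permF B g - (Nat.card B : ℂ)) =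
        ((∑ g ∈ hSf.toFinset, (Nat.card {y : G // y⁻¹ * g * y ∈ B} - Nat.card B) : ℕ) : ℂ) := by
      rw [Nat.cast_sum]
      refine Finset.sum_congr rfl fun g hg => ?_
      have h5 := h2 g (hSf.mem_toFinset.1 hg)
      rw [Nat.cast_sub (by omega)]
      rfl
    rw [h4, Nat.cast_ne_zero]
    apply ne_of_gt
    refine Finset.sum_pos (fun g hg => ?_) ⟨x, hSf.mem_toFinset.2 hxS⟩
    have h5 := h2 g (hSf.mem_toFinset.1 hg)
    have h6 : 0 < Nat.card B := Nat.card_pos
    omega
  -- decompose
  have h4 : ∀ g : G, permF B g - (Nat.card B : ℂ) =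
      ∑ ψ ∈ Finset.univ.erase (oneChar G), classInner (permF B) (ψ : G → ℂ) * (ψ : G → ℂ) g := by
    intro g
    have h5 := congrFun (classFunction_eq_sum (permF_class B)) g
    rw [Finset.sum_apply] at h5
    simp only [Pi.smul_apply, smul_eq_mul] at h5
    rw [h5, ← Finset.add_sum_erase Finset.univ _ (Finset.mem_univ (oneChar G)),
      classInner_permF B (isIrr_isClassFunction (oneChar G).2), md_one]
    simp
  rw [Finset.sum_congr rfl fun g _ => h4 g, Finset.sum_comm] at h3
  obtain ⟨ψ, hψ, h5⟩ := Finset.exists_ne_zero_of_sum_ne_zero h3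
  rw [← Finset.mul_sum] at h5
  refine ⟨ψ, ?_, (Finset.mem_erase.1 hψ).1, (classInner_permF_ne_zero B ψ).1 (left_ne_zero_of_mul h5)⟩
  refine mem_of_section_sum hM ψ x ?_
  rw [finsum_mem_eq_finite_toFinset_sum _ hSf]
  exact right_ne_zero_of_mul h5

/-- restriction of `md` -/
theorem md_subgroupOf (H B : Subgroup G) (hBH : B ≤ H) (χ : G → ℂ) :
    md (B.subgroupOf H) (fun k : H => χ k) = md B χ := by
  have := Fintype.ofFinite B
  have := Fintype.ofFinite (B.subgroupOf H)
  rw [md_eq, md_eq, Nat.card_congr (Subgroup.subgroupOfEquivOfLe hBH).toEquiv]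
  congr 1
  refine Fintype.sum_equiv (Subgroup.subgroupOfEquivOfLe hBH).toEquiv _ _ fun x => ?_
  rfl

/-- passing to an overgroup -/
theorem exists_over_md (hM : IsPModular p M) (H B : Subgroup G) (hBH : B ≤ H)
    (h : ∃ ψ ∈ principalBlock M H, ψ ≠ oneChar H ∧ md (B.subgroupOf H) (ψ : H → ℂ) ≠ 0) :
    ∃ χ ∈ principalBlock M G, χ ≠ oneChar G ∧ md B (χ : G → ℂ) ≠ 0 := by
  classical
  have := Fintype.ofFinite G
  have := Fintype.ofFinite H
  have : Finite (IrrCharacter H) := finite_irr
  have := Fintype.ofFinite (IrrCharacter H)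
  obtain ⟨ψ, hψ, hne, hmd⟩ := h
  obtain ⟨χ, hχ, h1⟩ := exists_over hM H ψ hψ
  refine ⟨χ, hχ, ?_, ?_⟩
  · rintro rfl
    apply h1
    exact classInner_irr_ne (oneChar H).2 ψ.2 fun he => hne (Subtype.ext he.symm)
  · have hres : IsCharacter H (fun k : H => (χ : G → ℂ) k) := isCharacter_comp H.subtype (isIrr_isCharacter χ.2)
    obtain ⟨m, hm⟩ := exists_nat_comb hres
    rw [← md_subgroupOf H B hBH]
    have h2 : classInner (fun k : H => (χ : G → ℂ) k) (ψ : H → ℂ) = m ψ := by
      rw [hm]
      exact classInner_sum_nsmul_irr _ _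
    choose d hd using fun θ : IrrCharacter H => exists_md (B.subgroupOf H) (isIrr_isCharacter θ.2)
    have h3 : md (B.subgroupOf H) (fun k : H => (χ : G → ℂ) k) = ((∑ θ : IrrCharacter H, m θ * d θ : ℕ) : ℂ) := by
      have := Fintype.ofFinite (B.subgroupOf H)
      rw [hm, md_eq, Nat.cast_sum]
      have h4 : ∀ k : (B.subgroupOf H), (∑ θ : IrrCharacter H, m θ • (θ : H → ℂ)) (k : H) =
          ∑ θ : IrrCharacter H, (m θ : ℂ) * (θ : H → ℂ) k := by
        intro k
        rw [Finset.sum_apply]
        refine Finset.sum_congr rfl fun θ _ => ?_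
        rw [Pi.smul_apply, nsmul_eq_mul]
      rw [Finset.sum_congr rfl fun k _ => h4 k, Finset.sum_comm, Finset.mul_sum]
      refine Finset.sum_congr rfl fun θ _ => ?_
      rw [Nat.cast_mul, ← hd θ, md_eq, ← Finset.mul_sum]
      ring
    rw [h3, Nat.cast_ne_zero]
    apply ne_of_gt
    refine Finset.sum_pos' (fun _ _ => Nat.zero_le _) ⟨ψ, Finset.mem_univ _, ?_⟩
    refine Nat.mul_pos ?_ ?_
    · rw [Nat.pos_iff_ne_zero]
      intro h0
      rw [h0] at h2
      exact h1 (by rw [h2]; simp)
    · rw [Nat.pos_iff_ne_zero]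
      intro h0
      have := hd ψ
      rw [h0] at this
      exact hmd (by rw [this]; simp)

end Cfsg.Agent.H966.EP
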